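import Mathlib
import Cfsg.Agent.MatModule.LargeSylow

/-!
Block diagonal embeddings of two symplectic groups and padding.
-/

set_option autoImplicit false

namespace Cfsg.Agent.SpPrimeGraph

variable {F : Type*} [Field F]

theorem exists_sp_prod {a b n : ℕ} (h : a + b = n) :
    ∃ ψ : Matrix.symplecticGroup (Fin a) F × Matrix.symplecticGroup (Fin b) F →* Matrix.symplecticGroup (Fin n) F,
      Function.Injective ψ := by
  classical
  subst h
  let σ : (Fin a ⊕ Fin a) ⊕ (Fin b ⊕ Fin b) ≃ Fin (a + b) ⊕ Fin (a + b) :=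
    (Equiv.sumSumSumComm _ _ _ _).trans (finSumFinEquiv.sumCongr finSumFinEquiv)
  set BJ : Matrix ((Fin a ⊕ Fin a) ⊕ (Fin b ⊕ Fin b)) ((Fin a ⊕ Fin a) ⊕ (Fin b ⊕ Fin b)) F :=
    Matrix.fromBlocks (Matrix.J (Fin a) F) 0 0 (Matrix.J (Fin b) F) with hBJ
  have hJ : Matrix.J (Fin (a + b)) F = Matrix.reindex σ σ BJ := by
    rw [← Equiv.symm_apply_eq]
    ext x y
    rcases x with (x | x) | (x | x) <;> rcases y with (y | y) | (y | y) <;>
      simp [hBJ, σ, Matrix.J, Matrix.one_apply, Matrix.neg_apply] <;>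
      (try split_ifs) <;> simp_all [Fin.ext_iff] <;> omega
  let f : Matrix.symplecticGroup (Fin a) F × Matrix.symplecticGroup (Fin b) F →
      Matrix (Fin (a + b) ⊕ Fin (a + b)) (Fin (a + b) ⊕ Fin (a + b)) F :=
    fun g => Matrix.reindex σ σ (Matrix.fromBlocks g.1.1 0 0 g.2.1)
  have hf : ∀ g, f g ∈ Matrix.symplecticGroup (Fin (a + b)) F := by
    intro g
    rw [SymplecticGroup.mem_iff, hJ]
    simp only [f, Matrix.reindex_apply, Matrix.transpose_submatrix, Matrix.submatrix_mul_equiv, hBJ,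
      Matrix.fromBlocks_transpose, Matrix.fromBlocks_multiply, Matrix.transpose_zero, Matrix.mul_zero,
      Matrix.zero_mul, add_zero, zero_add]
    rw [SymplecticGroup.mem_iff.1 g.1.2, SymplecticGroup.mem_iff.1 g.2.2]
  refine ⟨MonoidHom.mk' (fun g => ⟨f g, hf g⟩) ?_, ?_⟩
  · intro g h
    refine Subtype.ext ?_
    show f (g * h) = f g * f h
    simp only [f, Matrix.reindex_apply, Matrix.submatrix_mul_equiv, Matrix.fromBlocks_multiply,
      Matrix.mul_zero, Matrix.zero_mul, add_zero, zero_add]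
    rfl
  · intro g h hgh
    have h1 := Matrix.fromBlocks_inj.1 ((Matrix.reindex σ σ).injective (congrArg Subtype.val hgh))
    exact Prod.ext (Subtype.ext h1.1) (Subtype.ext h1.2.2.2)

theorem exists_sp_pad {a n : ℕ} (h : a ≤ n) :
    ∃ ψ : Matrix.symplecticGroup (Fin a) F →* Matrix.symplecticGroup (Fin n) F, Function.Injective ψ := by
  obtain ⟨ψ, hψ⟩ := exists_sp_prod (F := F) (Nat.add_sub_cancel' h)
  exact ⟨ψ.comp (MonoidHom.inl _ _), hψ.comp fun x y hxy => congrArg Prod.fst hxy⟩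

end Cfsg.Agent.SpPrimeGraph
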