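import Mathlib
import Cfsg.Agent.Classical.SympGroup

/-!
Eigenvalues of symplectic matrices over a finite field: stability under inversion and the Frobenius map, and the
resulting lower bounds for the dimension.
-/

set_option autoImplicit false

namespace Cfsg.Agent.SpPrimeGraph

open Polynomial Matrix

section Arith

variable {N : ℕ} (u : (ZMod N)ˣ)

/-- The exponents of the conjugates of an eigenvalue. -/
noncomputable def expSet : Finset (ZMod N)ˣ :=
  (Finset.range (orderOf u)).image (u ^ ·) ∪ (Finset.range (orderOf u)).image (-u ^ ·)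

theorem card_pow_image : ((Finset.range (orderOf u)).image (u ^ ·)).card = orderOf u := by
  rw [Finset.card_image_of_injOn, Finset.card_range]
  intro i hi j hj h
  exact pow_injOn_Iio_orderOf (by simpa using hi) (by simpa using hj) h

theorem le_card_expSet : orderOf u ≤ (expSet u).card :=
  (card_pow_image u).symm.le.trans (Finset.card_le_card Finset.subset_union_left)

theorem two_mul_le_card_expSet [NeZero N] (h : ∀ j, u ^ j ≠ -1) : 2 * orderOf u ≤ (expSet u).card := by
  rw [expSet, Finset.card_union_of_disjoint, card_pow_image, Finset.card_image_of_injOn, Finset.card_range, two_mul]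
  · intro i hi j hj hij
    exact pow_injOn_Iio_orderOf (by simpa using hi) (by simpa using hj) (neg_injective hij)
  · rw [Finset.disjoint_left]
    intro x hx hx'
    simp only [Finset.mem_image, Finset.mem_range] at hx hx'
    obtain ⟨i, hi, rfl⟩ := hx
    obtain ⟨j, hj, he⟩ := hx'
    refine h (i + (orderOf u - j)) ?_
    rw [pow_add, ← he, neg_mul, ← pow_add, Nat.add_sub_cancel' hj.le, pow_orderOf_eq_one]

end Arith

/-- The eta function on orders: m for odd m, m/2 for even m. -/
def IsEta (k η : ℕ) : Prop := (Odd k ∧ η = k) ∨ (Even k ∧ 2 * η = k)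

theorem neg_one_facts {r : ℕ} [Fact r.Prime] (hr2 : r ≠ 2) {q j : ℕ} (h : (q : ZMod r) ^ j = -1) :
    Even (orderOf (q : ZMod r)) ∧ ∃ o, Odd o ∧ 2 * j = orderOf (q : ZMod r) * o := by
  set k := orderOf (q : ZMod r)
  haveI : Fact (2 < r) := ⟨lt_of_le_of_ne (Fact.out : r.Prime).two_le (Ne.symm hr2)⟩
  have hne : (-1 : ZMod r) ≠ 1 := ZMod.neg_one_ne_one
  have h2 : k ∣ 2 * j := orderOf_dvd_of_pow_eq_one (by rw [two_mul, pow_add, h]; ring)
  have hnd : ¬ k ∣ j := fun hd => hne (h.symm.trans (orderOf_dvd_iff_pow_eq_one.1 hd))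
  obtain ⟨o, ho⟩ := h2
  have hodd : Odd o := by
    rw [← Nat.not_even_iff_odd]
    rintro ⟨o', rfl⟩
    exact hnd ⟨o', by nlinarith⟩
  refine ⟨?_, o, hodd, ho⟩
  have he : Even (k * o) := ho ▸ even_two_mul j
  exact (Nat.even_mul.1 he).resolve_right (Nat.not_even_iff_odd.2 hodd)

theorem prime_bound {r : ℕ} [Fact r.Prime] (hr2 : r ≠ 2) {q η : ℕ} (hq : q.Coprime r)
    (hη : IsEta (orderOf (q : ZMod r)) η) : 2 * η ≤ (expSet (ZMod.unitOfCoprime q hq)).card := by
  set u := ZMod.unitOfCoprime q hq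
  have hord : orderOf u = orderOf (q : ZMod r) := by rw [← orderOf_units]; rfl
  rcases hη with ⟨hodd, rfl⟩ | ⟨-, he⟩
  · rw [← hord]
    refine two_mul_le_card_expSet u fun j hj => Nat.not_even_iff_odd.2 hodd ?_
    have h1 := congrArg (fun z : (ZMod r)ˣ => (z : ZMod r)) hj
    simp only [Units.val_pow_eq_pow_val, Units.val_neg, Units.val_one, u, ZMod.coe_unitOfCoprime] at h1
    exact (neg_one_facts hr2 h1).1
  · rw [he, ← hord]
    exact le_card_expSet u

theorem pair_bound {r s : ℕ} [Fact r.Prime] [Fact s.Prime] (hr2 : r ≠ 2) (hs2 : s ≠ 2) {q n ηk ηl : ℕ}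
    (hq : q.Coprime (r * s)) (hηk : IsEta (orderOf (q : ZMod r)) ηk) (hηl : IsEta (orderOf (q : ZMod s)) ηl)
    (hle : ηk ≤ ηl) (hn : n < ηk + ηl)
    (hno : ¬ ∃ t, Odd t ∧ orderOf (q : ZMod s) = orderOf (q : ZMod r) * t) :
    2 * n < (expSet (ZMod.unitOfCoprime q hq)).card := by
  set u := ZMod.unitOfCoprime q hq
  set k := orderOf (q : ZMod r)
  set l := orderOf (q : ZMod s)
  haveI : NeZero (r * s) := ⟨mul_ne_zero (Fact.out : r.Prime).ne_zero (Fact.out : s.Prime).ne_zero⟩
  have hpow : ∀ j, ((u ^ j : (ZMod (r * s))ˣ) : ZMod (r * s)) = (q : ZMod (r * s)) ^ j := fun j => by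
    simp [u, ZMod.coe_unitOfCoprime]
  have hk0 : 0 < k := by
    refine orderOf_pos_iff.2 (isOfFinOrder_iff_pow_eq_one.2 ⟨r - 1, by have := (Fact.out : r.Prime).two_le; omega, ?_⟩)
    refine ZMod.pow_card_sub_one_eq_one ?_
    rw [Ne, ZMod.natCast_eq_zero_iff]
    exact fun h => (Fact.out : r.Prime).one_lt.ne' (Nat.eq_one_of_dvd_coprimes hq h (dvd_mul_right r s))
  set M := orderOf u
  have hM0 : 0 < M := orderOf_pos u
  have hMq : ((q : ZMod (r * s))) ^ M = 1 := by rw [← hpow, pow_orderOf_eq_one]; rfl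
  have hkM : k ∣ M := orderOf_dvd_of_pow_eq_one (by
    simpa using congrArg (ZMod.castHom (dvd_mul_right r s) (ZMod r)) hMq)
  have hlM : l ∣ M := orderOf_dvd_of_pow_eq_one (by
    simpa using congrArg (ZMod.castHom (dvd_mul_left s r) (ZMod s)) hMq)
  have hlMcases : M = l ∨ 2 * l ≤ M := by
    obtain ⟨c, hc⟩ := hlM
    rcases Nat.lt_or_ge c 2 with h | h
    · interval_cases c
      · rw [mul_zero] at hc; omega
      · exact Or.inl (by rw [hc, mul_one])
    · exact Or.inr (hc ▸ by nlinarith)
  by_cases hex : ∃ j, u ^ j = -1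
  · obtain ⟨j, hj⟩ := hex
    have hj' : (q : ZMod (r * s)) ^ j = -1 := by rw [← hpow, hj]; simp
    obtain ⟨hkev, o, ho, hjk⟩ := neg_one_facts (j := j) hr2
      (by simpa using congrArg (ZMod.castHom (dvd_mul_right r s) (ZMod r)) hj')
    obtain ⟨hlev, o', ho', hjl⟩ := neg_one_facts (j := j) hs2
      (by simpa using congrArg (ZMod.castHom (dvd_mul_left s r) (ZMod s)) hj')
    rcases hηk with ⟨h, -⟩ | ⟨-, hk⟩
    · exact absurd hkev (Nat.not_even_iff_odd.2 h)
    rcases hηl with ⟨h, -⟩ | ⟨-, hl⟩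
    · exact absurd hlev (Nat.not_even_iff_odd.2 h)
    have hkl : ¬ k ∣ l := by
      rintro ⟨t, ht⟩
      refine hno ⟨t, ?_, ht⟩
      have h1 : k * o = k * (t * o') := by
        calc k * o = 2 * j := hjk.symm
          _ = l * o' := hjl
          _ = k * (t * o') := by rw [ht, mul_assoc]
      have h2 : Odd (t * o') := (Nat.eq_of_mul_eq_mul_left hk0 h1) ▸ ho
      exact (Nat.odd_mul.1 h2).1
    have hMne : M ≠ l := fun h => hkl (h ▸ hkM)
    have := le_card_expSet u
    omega
  · push Not at hex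
    have hb := two_mul_le_card_expSet u hex
    rcases hlMcases with hMl | hMl
    · obtain ⟨t, ht⟩ := hkM
      rw [hMl] at ht
      have hte : Even t := by
        rw [← Nat.not_odd_iff_even]
        exact fun h => hno ⟨t, h, ht⟩
      have hlev : Even l := ht ▸ hte.mul_left k
      rcases hηl with ⟨h, -⟩ | ⟨-, hl⟩
      · exact absurd hlev (Nat.not_even_iff_odd.2 h)
      have h2k : 2 * k ≤ l := by
        obtain ⟨t', rfl⟩ := hte
        rcases Nat.eq_zero_or_pos t' with rfl | h'
        · simp at ht; omega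
        · rw [ht]; nlinarith
      rcases hηk with ⟨-, hk⟩ | ⟨-, hk⟩ <;> omega
    · rcases hηk with ⟨-, hk⟩ | ⟨-, hk⟩ <;> rcases hηl with ⟨-, hl⟩ | ⟨-, hl⟩ <;> omega

section Roots

variable {F : Type*} [Field F] [Fintype F] {n : ℕ}

/-- Base change to the algebraic closure. -/
noncomputable def bar (x : Matrix.symplecticGroup (Fin n) F) :
    Matrix (Fin n ⊕ Fin n) (Fin n ⊕ Fin n) (AlgebraicClosure F) :=
  x.1.map (algebraMap F (AlgebraicClosure F))

theorem bar_mul (x y : Matrix.symplecticGroup (Fin n) F) : bar (x * y) = bar x * bar y := by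
  simp [bar, Matrix.map_mul]

theorem bar_one : bar (1 : Matrix.symplecticGroup (Fin n) F) = 1 := by simp [bar]

theorem bar_pow (x : Matrix.symplecticGroup (Fin n) F) (m : ℕ) : bar (x ^ m) = bar x ^ m := by
  induction m with
  | zero => rw [pow_zero, pow_zero, bar_one]
  | succ m ih => rw [pow_succ, pow_succ, bar_mul, ih]

theorem bar_injective : Function.Injective (bar (F := F) (n := n)) := fun x y h =>
  Subtype.ext (Matrix.map_injective (algebraMap F (AlgebraicClosure F)).injective h)

theorem det_zero_iff {m : Type*} [Fintype m] [DecidableEq m] {K : Type*} [Field K] (A : Matrix m m K) (c : K) :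
    (c • (1 : Matrix m m K) - A).det = 0 ↔ A.charpoly.IsRoot c := by
  rw [Polynomial.IsRoot.def, Matrix.eval_charpoly, Matrix.smul_one_eq_diagonal]
  rfl

theorem root_frob {x : Matrix.symplecticGroup (Fin n) F} {c : AlgebraicClosure F}
    (h : (bar x).charpoly.IsRoot c) : (bar x).charpoly.IsRoot (c ^ Fintype.card F) := by
  obtain ⟨p, hp⟩ := CharP.exists F
  haveI := hp
  rw [bar, Matrix.charpoly_map, Polynomial.IsRoot.def, eval_map, ← aeval_def] at h ⊢
  have h2 := congrArg (aeval c) (FiniteField.expand_card (x.1.charpoly))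
  rw [expand_aeval, map_pow, h, zero_pow Fintype.card_ne_zero] at h2
  exact h2

theorem root_pow_eq_one {x : Matrix.symplecticGroup (Fin n) F} {N : ℕ} (hx : x ^ N = 1) {c : AlgebraicClosure F}
    (h : (bar x).charpoly.IsRoot c) : c ^ N = 1 := by
  obtain ⟨v, hv0, hv⟩ := Matrix.exists_mulVec_eq_zero_iff.2 ((det_zero_iff (bar x) c).2 h)
  rw [Matrix.sub_mulVec, Matrix.smul_mulVec, Matrix.one_mulVec, sub_eq_zero] at hv
  have hk : ∀ i : ℕ, bar x ^ i *ᵥ v = c ^ i • v := fun i => by
    induction i with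
    | zero => simp
    | succ i ih => rw [pow_succ, ← Matrix.mulVec_mulVec, ← hv, Matrix.mulVec_smul, ih, smul_smul, ← pow_succ']
  have h1 := hk N
  rw [← bar_pow, hx, bar_one, Matrix.one_mulVec] at h1
  exact (smul_left_injective _ hv0 (show (1 : AlgebraicClosure F) • v = c ^ N • v by rwa [one_smul])).symm

theorem root_inv {x : Matrix.symplecticGroup (Fin n) F} {c : AlgebraicClosure F} (hc : c ≠ 0)
    (h : (bar x).charpoly.IsRoot c) : (bar x).charpoly.IsRoot c⁻¹ := by
  set J := Matrix.J (Fin n) (AlgebraicClosure F)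
  have hJ : J.det ≠ 0 := (Matrix.isUnit_det_J (Fin n) (AlgebraicClosure F)).ne_zero
  have hxJ : bar x * J * (bar x).transpose = J := by
    have h1 := congrArg (fun M : Matrix (Fin n ⊕ Fin n) (Fin n ⊕ Fin n) F => M.map (algebraMap F (AlgebraicClosure F)))
      (SymplecticGroup.mem_iff.1 x.2)
    simp only [Matrix.map_mul, Matrix.transpose_map] at h1
    have hJm : (Matrix.J (Fin n) F).map (algebraMap F (AlgebraicClosure F)) = J := by
      ext i j
      rcases i with i | i <;> rcases j with j | j <;> by_cases hij : i = j <;>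
        simp [J, Matrix.J, Matrix.fromBlocks, hij]
    rw [hJm] at h1
    exact h1
  rw [← det_zero_iff] at h ⊢
  have e : (c⁻¹ • (1 : Matrix (Fin n ⊕ Fin n) (Fin n ⊕ Fin n) (AlgebraicClosure F)) - bar x) * J * (bar x).transpose =
      (-c⁻¹) • (J * (c • 1 - bar x).transpose) := by
    rw [Matrix.sub_mul, Matrix.sub_mul, hxJ, Matrix.transpose_sub, Matrix.transpose_smul, Matrix.transpose_one,
      Matrix.mul_sub, Matrix.mul_smul, Matrix.mul_one, Matrix.smul_mul, Matrix.one_mul, Matrix.smul_mul, smul_sub,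
      smul_smul, neg_mul, inv_mul_cancel₀ hc, neg_smul, one_smul, neg_smul]
    abel
  have h2 := congrArg Matrix.det e
  rw [Matrix.det_mul, Matrix.det_mul, Matrix.det_transpose, Matrix.det_smul, Matrix.det_mul, Matrix.det_transpose,
    h, mul_zero, mul_zero, mul_eq_zero, mul_eq_zero] at h2
  rcases h2 with (h2 | h2) | h2
  · exact h2
  · exact absurd h2 hJ
  · have h3 := congrArg Matrix.det hxJ
    rw [Matrix.det_mul, Matrix.det_mul, Matrix.det_transpose, h2, zero_mul, zero_mul] at h3
    exact absurd h3.symm hJ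

/-- The eigenvalues. -/
noncomputable def rootSet' (x : Matrix.symplecticGroup (Fin n) F) : Finset (AlgebraicClosure F) :=
  @Multiset.toFinset _ (Classical.decEq _) (bar x).charpoly.roots

theorem mem_rootSet' {x : Matrix.symplecticGroup (Fin n) F} {c : AlgebraicClosure F} :
    c ∈ rootSet' x ↔ (bar x).charpoly.IsRoot c := by
  classical
  rw [rootSet', Multiset.mem_toFinset, mem_roots ((bar x).charpoly_monic).ne_zero]

theorem card_rootSet'_le (x : Matrix.symplecticGroup (Fin n) F) : (rootSet' x).card ≤ 2 * n := by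
  classical
  refine (Multiset.toFinset_card_le _).trans ((card_roots' _).trans ?_)
  rw [Matrix.charpoly_natDegree_eq_dim, Fintype.card_sum, Fintype.card_fin]
  omega

/-- An eigenvalue of a given order has all its conjugates and their inverses as eigenvalues. -/
theorem exists_conjugates {x : Matrix.symplecticGroup (Fin n) F} {c : AlgebraicClosure F}
    (h : (bar x).charpoly.IsRoot c) {N : ℕ} [NeZero N] (hc : orderOf c = N) (hq : (Fintype.card F).Coprime N) :
    ∃ S : Finset (AlgebraicClosure F), S ⊆ rootSet' x ∧ (∀ d ∈ S, orderOf d = N) ∧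
      S.card = (expSet (ZMod.unitOfCoprime _ hq)).card := by
  classical
  set u := ZMod.unitOfCoprime _ hq
  set f : (ZMod N)ˣ → AlgebraicClosure F := fun z => c ^ (z : ZMod N).val
  have hc0 : c ≠ 0 := fun h0 => by
    rw [h0, orderOf_zero] at hc
    exact NeZero.ne N hc.symm
  have hfi : Function.Injective f := fun a b hab =>
    Units.ext (ZMod.val_injective N (pow_injOn_Iio_orderOf (Set.mem_Iio.2 (hc.symm ▸ ZMod.val_lt _))
      (Set.mem_Iio.2 (hc.symm ▸ ZMod.val_lt _)) hab))
  have hfpow : ∀ j, f (u ^ j) = c ^ (Fintype.card F) ^ j := fun j => by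
    show c ^ ((u ^ j : (ZMod N)ˣ) : ZMod N).val = _
    rw [Units.val_pow_eq_pow_val, ZMod.coe_unitOfCoprime, ← Nat.cast_pow, ZMod.val_natCast, ← hc, pow_mod_orderOf]
  have hfneg : ∀ z, f (-z) = (f z)⁻¹ := fun z => by
    refine eq_inv_of_mul_eq_one_left ?_
    show c ^ _ * c ^ _ = 1
    rw [← pow_add, ← pow_mod_orderOf, hc, ← ZMod.val_add]
    simp
  have hfpowroot : ∀ j, (bar x).charpoly.IsRoot (c ^ (Fintype.card F) ^ j) := fun j => by
    induction j with
    | zero => rwa [pow_zero, pow_one]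
    | succ j ih => rw [pow_succ, pow_mul]; exact root_frob ih
  refine ⟨(expSet u).image f, fun d hd => ?_, fun d hd => ?_, Finset.card_image_of_injective _ hfi⟩
  · simp only [expSet, Finset.mem_image, Finset.mem_union] at hd
    obtain ⟨z, ⟨j, -, rfl⟩ | ⟨j, -, rfl⟩, rfl⟩ := hd
    · rw [mem_rootSet', hfpow]; exact hfpowroot j
    · rw [mem_rootSet', hfneg, hfpow]
      exact root_inv (pow_ne_zero _ hc0) (hfpowroot j)
  · simp only [Finset.mem_image] at hd
    obtain ⟨z, -, rfl⟩ := hd
    show orderOf (c ^ (z : ZMod N).val) = N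
    rcases Nat.eq_zero_or_pos (z : ZMod N).val with h0 | h0
    · have h1 := ZMod.val_coe_unit_coprime z
      rw [h0, Nat.coprime_zero_left] at h1
      rw [h0, pow_zero, orderOf_one, h1]
    · rw [orderOf_pow' _ h0.ne', hc, (ZMod.val_coe_unit_coprime z).symm.gcd_eq_one, Nat.div_one]

/-- An element of order prime to p having only s-th roots of unity as eigenvalues has s-th power one. -/
theorem pow_eq_one_of_roots (p : ℕ) [Fact p.Prime] [CharP F p] {x : Matrix.symplecticGroup (Fin n) F} {N s : ℕ}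
    (hx : x ^ N = 1) (hN : N.Coprime p) (h : ∀ c, (bar x).charpoly.IsRoot c → c ^ s = 1) : x ^ s = 1 := by
  classical
  rcases Nat.eq_zero_or_pos n with rfl | hn
  · exact Subtype.ext (Matrix.ext fun i => i.elim (fun a => a.elim0) (fun a => a.elim0))
  haveI : Nonempty (Fin n ⊕ Fin n) := ⟨Sum.inl ⟨0, hn⟩⟩
  set P : (AlgebraicClosure F)[X] := X ^ s - 1
  set M := bar x
  have hdvd : M.charpoly ∣ P ^ M.charpoly.roots.card := by
    nth_rw 1 [(IsAlgClosed.splits M.charpoly).eq_prod_roots_of_monic M.charpoly_monic]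
    refine dvd_trans (Multiset.prod_dvd_prod_of_dvd _ (fun _ => P) fun c hc => ?_) ?_
    · rw [dvd_iff_isRoot, Polynomial.IsRoot.def]
      have hcs := h c ((mem_roots (M.charpoly_monic).ne_zero).1 hc)
      simp [P, hcs]
    · rw [Multiset.map_const', Multiset.prod_replicate]
  have h0 : aeval M (P ^ M.charpoly.roots.card) = 0 := by
    obtain ⟨R, hR⟩ := hdvd
    rw [hR, map_mul, Matrix.aeval_self_charpoly, zero_mul]
  rw [map_pow, map_sub, map_pow, aeval_X, map_one] at h0
  haveI : CharP (AlgebraicClosure F) p := charP_of_injective_algebraMap (algebraMap F _).injective p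
  have h1 : (M ^ s - 1) ^ p ^ M.charpoly.roots.card = 0 :=
    pow_eq_zero_of_le (Nat.lt_pow_self (Fact.out : p.Prime).one_lt).le h0
  rw [sub_pow_char_pow_of_commute _ _ (Commute.one_right _), one_pow, sub_eq_zero, ← pow_mul, ← bar_pow,
    ← bar_one (F := F) (n := n)] at h1
  have h2 : (x ^ s) ^ p ^ M.charpoly.roots.card = 1 := by rw [← pow_mul]; exact bar_injective h1
  have h3 : (x ^ s) ^ N = 1 := by rw [← pow_mul, mul_comm, pow_mul, hx, one_pow]
  have h4 := Nat.dvd_gcd (orderOf_dvd_of_pow_eq_one h3) (orderOf_dvd_of_pow_eq_one h2)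
  rw [Nat.Coprime.pow_right _ hN, Nat.dvd_one] at h4
  exact orderOf_eq_one_iff.1 h4

/-- A matrix commuting with one having 2n distinct eigenvalues has no element of order p. -/
theorem eq_one_of_commute_of_roots (p : ℕ) [Fact p.Prime] [CharP F p] {a b : Matrix.symplecticGroup (Fin n) F}
    (hab : Commute a b) (hb : b ^ p = 1) (hcard : 2 * n ≤ (rootSet' a).card) : b = 1 := by
  classical
  set Ω := AlgebraicClosure F
  haveI : CharP Ω p := charP_of_injective_algebraMap (algebraMap F _).injective p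
  have hv : ∀ c : rootSet' a, ∃ v : Fin n ⊕ Fin n → Ω, v ≠ 0 ∧ bar a *ᵥ v = (c : Ω) • v := fun c => by
    obtain ⟨v, hv0, hv⟩ := Matrix.exists_mulVec_eq_zero_iff.2 ((det_zero_iff (bar a) _).2 (mem_rootSet'.1 c.2))
    rw [Matrix.sub_mulVec, Matrix.smul_mulVec, Matrix.one_mulVec, sub_eq_zero] at hv
    exact ⟨v, hv0, hv.symm⟩
  choose v hv0 hv using hv
  have hli : LinearIndependent Ω v := Module.End.eigenvectors_linearIndependent' (Matrix.toLin' (bar a))
    (fun c : rootSet' a => (c : Ω)) Subtype.val_injective v fun c => ⟨Module.End.mem_eigenspace_iff.2 (hv c), hv0 c⟩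
  have hdim : Fintype.card (rootSet' a) = Module.finrank Ω (Fin n ⊕ Fin n → Ω) := by
    rw [Fintype.card_coe, Module.finrank_pi, Fintype.card_sum, Fintype.card_fin]
    have := card_rootSet'_le a
    omega
  have hne : Nonempty (rootSet' a) ∨ n = 0 := by
    rcases Nat.eq_zero_or_pos n with h | h
    · exact Or.inr h
    · exact Or.inl ⟨⟨_, (Finset.card_pos.1 (by omega : 0 < (rootSet' a).card)).choose_spec⟩⟩
  rcases hne with hne | rfl
  swap
  · exact Subtype.ext (Matrix.ext fun i => i.elim (fun z => z.elim0) (fun z => z.elim0))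
  let B := basisOfLinearIndependentOfCardEqFinrank hli hdim
  have hBv : ⇑B = v := coe_basisOfLinearIndependentOfCardEqFinrank hli hdim
  have hcomm : bar a * bar b = bar b * bar a := by rw [← bar_mul, hab.eq, bar_mul]
  have key : ∀ c, bar b *ᵥ v c = v c := by
    intro c
    have hw : bar a *ᵥ (bar b *ᵥ v c) = (c : Ω) • (bar b *ᵥ v c) := by
      rw [Matrix.mulVec_mulVec, hcomm, ← Matrix.mulVec_mulVec, hv, Matrix.mulVec_smul]
    set w := bar b *ᵥ v c
    have hexp : w = ∑ d, B.repr w d • v d := by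
      conv_lhs => rw [← B.sum_repr w, hBv]
    have h1 : ∑ d : rootSet' a, (B.repr w d * ((d : Ω) - c)) • v d = 0 := by
      have e : bar a *ᵥ w = ∑ d : rootSet' a, (B.repr w d * (d : Ω)) • v d := by
        conv_lhs => rw [hexp]
        rw [Matrix.mulVec_sum]
        exact Finset.sum_congr rfl fun d _ => by rw [Matrix.mulVec_smul, hv, smul_smul]
      have e2 : (c : Ω) • w = ∑ d : rootSet' a, (B.repr w d * (c : Ω)) • v d := by
        conv_lhs => rw [hexp]
        rw [Finset.smul_sum]
        exact Finset.sum_congr rfl fun d _ => by rw [smul_smul, mul_comm]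
      simp only [mul_sub, sub_smul, Finset.sum_sub_distrib]
      rw [← e, ← e2, hw, sub_self]
    have h2 : ∀ d, d ≠ c → B.repr w d = 0 := fun d hd => by
      have h3 := Fintype.linearIndependent_iff.1 hli _ h1 d
      exact (mul_eq_zero.1 h3).resolve_right (sub_ne_zero.2 fun h => hd (Subtype.ext h))
    have hwc : w = B.repr w c • v c := by
      conv_lhs => rw [hexp]
      exact Finset.sum_eq_single c (fun d _ hd => by rw [h2 d hd, zero_smul]) (fun h => absurd (Finset.mem_univ _) h)
    set t := B.repr w c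
    have hk : ∀ i : ℕ, bar b ^ i *ᵥ v c = t ^ i • v c := fun i => by
      induction i with
      | zero => simp
      | succ i ih =>
        rw [pow_succ, ← Matrix.mulVec_mulVec, show bar b *ᵥ v c = t • v c from hwc, Matrix.mulVec_smul, ih,
          smul_smul, ← pow_succ']
    have h3 := hk p
    rw [← bar_pow, hb, bar_one, Matrix.one_mulVec] at h3
    have h4 : (1 : Ω) = t ^ p := smul_left_injective _ (hv0 c) (show (1 : Ω) • v c = t ^ p • v c by rwa [one_smul])
    have h5 : (t - 1) ^ p = 0 := by rw [sub_pow_char, ← h4, one_pow, sub_self]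
    rw [sub_eq_zero.1 (eq_zero_of_pow_eq_zero h5), one_smul] at hwc
    exact hwc
  apply bar_injective
  rw [bar_one]
  refine Matrix.ext_of_mulVec_single fun i => ?_
  rw [Matrix.one_mulVec]
  have : Matrix.toLin' (bar b) = LinearMap.id := B.ext fun c => by
    rw [hBv, Matrix.toLin'_apply, key, LinearMap.id_apply]
  exact LinearMap.congr_fun this _

end Roots

end Cfsg.Agent.SpPrimeGraph
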