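import Mathlib
import Cfsg.Prelude.Def_Classical
import Cfsg.Agent.SpPrimeGraph.Roots
import Cfsg.Agent.SpPrimeGraph.Blocks
import Cfsg.Agent.Spectrum.PSp

/-!
Adjacency in the prime graph of PSp(2n, q) for odd primes.
-/

set_option autoImplicit false

namespace Cfsg.Agent.SpPrimeGraph

open Cfsg.Agent

variable {F : Type*} [Field F] [Fintype F] {n : ℕ}

theorem sq_center (hn : 1 ≤ n) {z : Matrix.symplecticGroup (Fin n) F}
    (hz : z ∈ Subgroup.center (Matrix.symplecticGroup (Fin n) F)) : z ^ 2 = 1 := by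
  obtain ⟨c, hc, hz⟩ := (Spectrum.center_iff hn z).1 hz
  refine Subtype.ext ?_
  rw [SubmonoidClass.coe_pow, hz, smul_pow, one_pow, sq, hc, one_smul]
  rfl

/-- For odd N, or in characteristic 2, the orders N occur in Sp and PSp simultaneously. -/
theorem range_iff (hn : 1 ≤ n) (p : ℕ) [Fact p.Prime] [CharP F p] {N : ℕ} (hN : Odd N ∨ p = 2) :
    N ∈ Set.range (orderOf : Cfsg.PSp n F → ℕ) ↔ ∃ x : Matrix.symplecticGroup (Fin n) F, orderOf x = N := by
  set Z := Subgroup.center (Matrix.symplecticGroup (Fin n) F)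
  have hZ : p = 2 → Z = ⊥ := fun hp => by
    refine (Subgroup.eq_bot_iff_forall _).2 fun z hz => ?_
    obtain ⟨c, hc, hz⟩ := (Spectrum.center_iff hn z).1 hz
    subst hp
    have hc1 : c = 1 := by
      rcases mul_self_eq_one_iff.1 hc with h | h
      · exact h
      · rw [h, CharTwo.neg_eq]
    exact Subtype.ext (by rw [hz, hc1, one_smul]; rfl)
  constructor
  · rintro ⟨y, hy⟩
    obtain ⟨x, rfl⟩ := QuotientGroup.mk'_surjective Z y
    rcases hN with hodd | hp
    · refine ⟨x ^ 2, Nat.dvd_antisymm (orderOf_dvd_of_pow_eq_one ?_) ?_⟩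
      · have hmem : x ^ N ∈ Z := by
          rw [← QuotientGroup.eq_one_iff]
          show QuotientGroup.mk' Z (x ^ N) = 1
          rw [map_pow, ← hy, pow_orderOf_eq_one]
        rw [← pow_mul, mul_comm, pow_mul, sq_center hn hmem]
      · calc N = orderOf (QuotientGroup.mk' Z x ^ 2) := by
              rw [orderOf_pow' _ two_ne_zero, hy, Nat.Coprime.gcd_eq_one, Nat.div_one]
              exact (Nat.coprime_two_right.2 hodd)
          _ ∣ orderOf (x ^ 2) := by rw [← map_pow]; exact orderOf_map_dvd _ _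
    · refine ⟨x, ?_⟩
      rw [← hy, orderOf_injective (QuotientGroup.mk' Z)]
      rw [← MonoidHom.ker_eq_bot_iff, QuotientGroup.ker_mk', hZ hp]
  · rintro ⟨x, hx⟩
    refine ⟨QuotientGroup.mk' Z x, ?_⟩
    rcases hN with hodd | hp
    · refine Nat.dvd_antisymm (hx ▸ orderOf_map_dvd _ _) ?_
      have hmem : x ^ orderOf (QuotientGroup.mk' Z x) ∈ Z := by
        rw [← QuotientGroup.eq_one_iff]
        show QuotientGroup.mk' Z (x ^ _) = 1
        rw [map_pow, pow_orderOf_eq_one]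
      have h2 := sq_center hn hmem
      rw [← pow_mul, ← orderOf_dvd_iff_pow_eq_one, hx] at h2
      exact (Nat.Coprime.dvd_of_dvd_mul_right (Nat.coprime_two_right.2 hodd) h2)
    · rw [← hx, orderOf_injective (QuotientGroup.mk' Z)]
      rw [← MonoidHom.ker_eq_bot_iff, QuotientGroup.ker_mk', hZ hp]

theorem coprime_of_prime (p : ℕ) [Fact p.Prime] [CharP F p] {r : ℕ} (hr : r.Prime) (hrp : r ≠ p) :
    (Fintype.card F).Coprime r := by
  obtain ⟨e, -, he⟩ := FiniteField.card F p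
  rw [he]
  exact Nat.Coprime.pow_left _ ((Nat.coprime_primes (Fact.out : p.Prime) hr).2 (Ne.symm hrp))

theorem order_pos {q r : ℕ} (hr : r.Prime) (hq : q.Coprime r) : 0 < orderOf (q : ZMod r) := by
  haveI := Fact.mk hr
  exact LargeSylow.order_pos fun h => hr.one_lt.ne' (Nat.eq_one_of_dvd_coprimes hq h dvd_rfl)

theorem eta_pos {k η : ℕ} (hk : 0 < k) (h : IsEta k η) : 0 < η := by
  rcases h with ⟨-, h⟩ | ⟨-, h⟩ <;> omega

theorem dvd_pow_add_one {r : ℕ} [Fact r.Prime] {q h : ℕ} (he : orderOf (q : ZMod r) = 2 * h)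
    (hh : 0 < h) : r ∣ q ^ h + 1 := by
  rw [← ZMod.natCast_eq_zero_iff, Nat.cast_add, Nat.cast_pow, Nat.cast_one]
  have h1 : ((q : ZMod r) ^ h) * ((q : ZMod r) ^ h) = 1 := by
    rw [← pow_add, ← two_mul, ← he, pow_orderOf_eq_one]
  rcases mul_self_eq_one_iff.1 h1 with h2 | h2
  · exfalso
    have := Nat.le_of_dvd hh (orderOf_dvd_of_pow_eq_one h2)
    omega
  · rw [h2, neg_add_cancel]

/-- An element of order r in Sp of dimension twice eta. -/
theorem exists_orderOf_eta {r η : ℕ} [Fact r.Prime] (hq : (Fintype.card F).Coprime r)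
    (hη : IsEta (orderOf ((Fintype.card F : ℕ) : ZMod r)) η) :
    ∃ g : Matrix.symplecticGroup (Fin η) F, orderOf g = r := by
  have hk := order_pos (Fact.out : r.Prime) hq
  have hpos := eta_pos hk hη
  rcases hη with ⟨-, rfl⟩ | ⟨-, he⟩
  · obtain ⟨g, hg⟩ := LargeSylow.exists_gl_orderOf (F := F) rfl hk
      ((LargeSylow.dvd_sub_iff Fintype.card_pos _).2 (dvd_refl _) : r ∣ _)
    obtain ⟨φ, hφ⟩ := LargeSylow.exists_gl_to_sp (F := F) (orderOf ((Fintype.card F : ℕ) : ZMod r))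
    exact ⟨φ g, by rw [orderOf_injective φ hφ, hg]⟩
  · exact LargeSylow.exists_sp_orderOf rfl hpos (dvd_pow_add_one he.symm hpos)

/-- An element of order rs in Sp of dimension twice eta l when l is an odd multiple of k. -/
theorem exists_orderOf_mult {r s ηl t : ℕ} [Fact r.Prime] [Fact s.Prime] (hrs : r ≠ s)
    (hr : (Fintype.card F).Coprime r) (hs : (Fintype.card F).Coprime s)
    (hη : IsEta (orderOf ((Fintype.card F : ℕ) : ZMod s)) ηl) (ht : Odd t)
    (hl : orderOf ((Fintype.card F : ℕ) : ZMod s) = orderOf ((Fintype.card F : ℕ) : ZMod r) * t) :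
    ∃ g : Matrix.symplecticGroup (Fin ηl) F, orderOf g = r * s := by
  set q := Fintype.card F
  have hk := order_pos (Fact.out : r.Prime) hr
  have hl0 := order_pos (Fact.out : s.Prime) hs
  have hpos := eta_pos hl0 hη
  have hco : r.Coprime s := (Nat.coprime_primes Fact.out Fact.out).2 hrs
  rcases hη with ⟨-, rfl⟩ | ⟨hev, he⟩
  · obtain ⟨g, hg⟩ := LargeSylow.exists_gl_orderOf (F := F) rfl hl0
      (hco.mul_dvd_of_dvd_of_dvd ((LargeSylow.dvd_sub_iff Fintype.card_pos _).2 (by rw [hl]; exact dvd_mul_right _ _))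
        ((LargeSylow.dvd_sub_iff Fintype.card_pos _).2 (dvd_refl _)))
    obtain ⟨φ, hφ⟩ := LargeSylow.exists_gl_to_sp (F := F) (orderOf ((q : ℕ) : ZMod s))
    exact ⟨φ g, by rw [orderOf_injective φ hφ, hg]⟩
  · have hkev : Even (orderOf ((q : ℕ) : ZMod r)) := by
      rw [hl] at hev
      exact (Nat.even_mul.1 hev).resolve_right (Nat.not_even_iff_odd.2 ht)
    obtain ⟨h, hh⟩ := hkev
    have h1 : r ∣ q ^ h + 1 := dvd_pow_add_one (by omega) (by omega)
    have e : ηl = h * t := by rw [hh] at hl; nlinarith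
    refine LargeSylow.exists_sp_orderOf rfl hpos (hco.mul_dvd_of_dvd_of_dvd ?_ (dvd_pow_add_one he.symm hpos))
    rw [e, pow_mul]
    refine h1.trans ?_
    have := ht.nat_add_dvd_pow_add_pow (q ^ h) 1
    rwa [one_pow] at this

theorem exists_order_p (p : ℕ) [Fact p.Prime] [CharP F p] {b : ℕ} (hb : 1 ≤ b) :
    ∃ g : Matrix.symplecticGroup (Fin b) F, orderOf g = p := by
  refine exists_prime_orderOf_dvd_card' p ?_
  obtain ⟨e, -, he⟩ := FiniteField.card F p
  rw [Classical.card_symplecticGroup rfl, he]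
  exact dvd_mul_of_dvd_left (dvd_pow (dvd_pow_self p e.ne_zero) (by positivity)) _

theorem exists_product {a b N M : ℕ} (hab : a + b ≤ n) (hco : N.Coprime M)
    (ha : ∃ g : Matrix.symplecticGroup (Fin a) F, orderOf g = N)
    (hb : ∃ g : Matrix.symplecticGroup (Fin b) F, orderOf g = M) :
    ∃ g : Matrix.symplecticGroup (Fin n) F, orderOf g = N * M := by
  obtain ⟨g, hg⟩ := ha
  obtain ⟨h, hh⟩ := hb
  obtain ⟨ψ, hψ⟩ := exists_sp_prod (F := F) (a := a) (b := b) rfl
  obtain ⟨π, hπ⟩ := exists_sp_pad (F := F) hab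
  refine ⟨π (ψ (g, h)), ?_⟩
  rw [orderOf_injective π hπ, orderOf_injective ψ hψ, Prod.orderOf, hg, hh]
  exact hco.lcm_eq_mul

/-- The eigenvalue behind an element of order r. -/
theorem exists_root_pow_ne (p : ℕ) [Fact p.Prime] [CharP F p] {x : Matrix.symplecticGroup (Fin n) F} {N s : ℕ}
    (hx : orderOf x = N) (hN : N.Coprime p) (hs : ¬ N ∣ s) :
    ∃ c, (bar x).charpoly.IsRoot c ∧ c ^ N = 1 ∧ c ^ s ≠ 1 := by
  by_contra hcon
  push Not at hcon
  have h1 : x ^ N = 1 := hx ▸ pow_orderOf_eq_one x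
  exact hs (hx ▸ orderOf_dvd_of_pow_eq_one
    (pow_eq_one_of_roots p h1 hN fun c hc => hcon c hc (root_pow_eq_one h1 hc)))

theorem no_element_pair (p : ℕ) [Fact p.Prime] [CharP F p] {r s ηk ηl : ℕ} [Fact r.Prime] [Fact s.Prime]
    (hr2 : r ≠ 2) (hs2 : s ≠ 2) (hrp : r ≠ p) (hsp : s ≠ p) (hrs : r ≠ s)
    (hηk : IsEta (orderOf ((Fintype.card F : ℕ) : ZMod r)) ηk)
    (hηl : IsEta (orderOf ((Fintype.card F : ℕ) : ZMod s)) ηl) (hle : ηk ≤ ηl) (hn : n < ηk + ηl)
    (hno : ¬ ∃ t, Odd t ∧ orderOf ((Fintype.card F : ℕ) : ZMod s) = orderOf ((Fintype.card F : ℕ) : ZMod r) * t) :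
    ∀ x : Matrix.symplecticGroup (Fin n) F, orderOf x ≠ r * s := by
  classical
  intro x hx
  have hr : r.Prime := Fact.out
  have hs : s.Prime := Fact.out
  have hco : r.Coprime s := (Nat.coprime_primes hr hs).2 hrs
  have hqr := coprime_of_prime (F := F) p hr hrp
  have hqs := coprime_of_prime (F := F) p hs hsp
  have hN : (r * s).Coprime p :=
    Nat.Coprime.mul_left ((Nat.coprime_primes hr Fact.out).2 hrp) ((Nat.coprime_primes hs Fact.out).2 hsp)
  have hns : ¬ r * s ∣ s := fun h => by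
    have := Nat.le_of_dvd hs.pos h; nlinarith [hr.two_le, hs.pos]
  have hnr : ¬ r * s ∣ r := fun h => by
    have := Nat.le_of_dvd hr.pos h; nlinarith [hs.two_le, hr.pos]
  obtain ⟨c, hc, hcN, hcs⟩ := exists_root_pow_ne p hx hN hns
  obtain ⟨d, hd, hdN, hdr⟩ := exists_root_pow_ne p hx hN hnr
  haveI : NeZero (r * s) := ⟨mul_ne_zero hr.ne_zero hs.ne_zero⟩
  haveI : NeZero r := ⟨hr.ne_zero⟩
  haveI : NeZero s := ⟨hs.ne_zero⟩
  have big : ∀ e, (bar x).charpoly.IsRoot e → orderOf e = r * s → False := fun e he ho => by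
    obtain ⟨S, hS, -, hcard⟩ := exists_conjugates he ho (Nat.Coprime.mul_right hqr hqs)
    have := pair_bound hr2 hs2 (Nat.Coprime.mul_right hqr hqs) hηk hηl hle hn hno
    have := Finset.card_le_card hS
    have := card_rootSet'_le x
    omega
  have cases' : ∀ e : AlgebraicClosure F, e ^ (r * s) = 1 →
      orderOf e = r * s ∨ orderOf e ∣ r ∧ orderOf e ∣ r ∨ orderOf e ∣ s := by
    intro e he
    obtain ⟨u, v, hu, hv, huv⟩ := exists_dvd_and_dvd_of_dvd_mul (orderOf_dvd_of_pow_eq_one he)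
    rcases (Nat.dvd_prime hr).1 hu with rfl | rfl
    · exact Or.inr (Or.inr (by rw [huv, one_mul]; exact hv))
    · rcases (Nat.dvd_prime hs).1 hv with rfl | rfl
      · exact Or.inr (Or.inl ⟨by rw [huv, mul_one], by rw [huv, mul_one]⟩)
      · exact Or.inl huv
  have hc' : orderOf c = r := by
    rcases cases' c hcN with h | ⟨h, -⟩ | h
    · exact (big c hc h).elim
    · refine ((Nat.dvd_prime hr).1 h).resolve_left fun h1 => hcs ?_
      rw [orderOf_eq_one_iff.1 h1, one_pow]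
    · exact absurd (orderOf_dvd_iff_pow_eq_one.1 h) hcs
  have hd' : orderOf d = s := by
    rcases cases' d hdN with h | ⟨h, -⟩ | h
    · exact (big d hd h).elim
    · exact absurd (orderOf_dvd_iff_pow_eq_one.1 h) hdr
    · refine ((Nat.dvd_prime hs).1 h).resolve_left fun h1 => hdr ?_
      rw [orderOf_eq_one_iff.1 h1, one_pow]
  obtain ⟨S, hS, hSo, hScard⟩ := exists_conjugates hc hc' hqr
  obtain ⟨T, hT, hTo, hTcard⟩ := exists_conjugates hd hd' hqs
  have hdis : Disjoint S T := Finset.disjoint_left.2 fun e he he' => hrs ((hSo e he).symm.trans (hTo e he'))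
  have h1 := Finset.card_le_card (Finset.union_subset hS hT)
  rw [Finset.card_union_of_disjoint hdis] at h1
  have := prime_bound hr2 hqr hηk
  have := prime_bound hs2 hqs hηl
  have := card_rootSet'_le x
  omega

theorem no_element_char (p : ℕ) [Fact p.Prime] [CharP F p] {r η : ℕ} [Fact r.Prime] (hr2 : r ≠ 2) (hrp : r ≠ p)
    (hη : IsEta (orderOf ((Fintype.card F : ℕ) : ZMod r)) η) (hn : n ≤ η) :
    ∀ x : Matrix.symplecticGroup (Fin n) F, orderOf x ≠ r * p := by
  intro x hx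
  have hr : r.Prime := Fact.out
  have hp : p.Prime := Fact.out
  haveI : NeZero r := ⟨hr.ne_zero⟩
  have ha : orderOf (x ^ p) = r := by
    rw [orderOf_pow' _ hp.ne_zero, hx, Nat.gcd_mul_left_left, Nat.mul_div_cancel _ hp.pos]
  have hb : (x ^ r) ^ p = 1 := by rw [← pow_mul, ← hx, pow_orderOf_eq_one]
  obtain ⟨c, hc, hcr, hc1⟩ := exists_root_pow_ne p ha ((Nat.coprime_primes hr hp).2 hrp) (s := 1) (fun h =>
    hr.one_lt.ne' (Nat.dvd_one.1 h))
  rw [pow_one] at hc1
  have hqr := coprime_of_prime (F := F) p hr hrp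
  obtain ⟨S, hS, -, hScard⟩ := exists_conjugates hc (orderOf_eq_prime hcr hc1) hqr
  have := prime_bound hr2 hqr hη
  have := Finset.card_le_card hS
  have hbz : x ^ r = 1 := eq_one_of_commute_of_roots p ((Commute.refl x).pow_pow p r) hb (by omega)
  have h4 := Nat.le_of_dvd hr.pos (hx ▸ orderOf_dvd_of_pow_eq_one hbz)
  nlinarith [hp.two_le, hr.pos]

theorem psp_pair (p : ℕ) [Fact p.Prime] [CharP F p] (hn : 1 ≤ n) {r s ηk ηl : ℕ} [Fact r.Prime] [Fact s.Prime]
    (hr2 : r ≠ 2) (hs2 : s ≠ 2) (hrp : r ≠ p) (hsp : s ≠ p) (hrs : r ≠ s)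
    (hηk : IsEta (orderOf ((Fintype.card F : ℕ) : ZMod r)) ηk)
    (hηl : IsEta (orderOf ((Fintype.card F : ℕ) : ZMod s)) ηl) (hle : ηk ≤ ηl) (hηln : ηl ≤ n) :
    r * s ∉ Set.range (orderOf : Cfsg.PSp n F → ℕ) ↔
      n < ηk + ηl ∧ ¬ ∃ t, Odd t ∧ orderOf ((Fintype.card F : ℕ) : ZMod s) =
        orderOf ((Fintype.card F : ℕ) : ZMod r) * t := by
  rw [range_iff hn p (Or.inl (((Fact.out : r.Prime).odd_of_ne_two hr2).mul ((Fact.out : s.Prime).odd_of_ne_two hs2)))]
  constructor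
  · intro h
    refine ⟨?_, ?_⟩
    · by_contra hle'
      exact h (exists_product (by omega) ((Nat.coprime_primes Fact.out Fact.out).2 hrs)
        (exists_orderOf_eta (coprime_of_prime p Fact.out hrp) hηk)
        (exists_orderOf_eta (coprime_of_prime p Fact.out hsp) hηl))
    · rintro ⟨t, ht, hl⟩
      obtain ⟨g, hg⟩ := exists_orderOf_mult hrs (coprime_of_prime (F := F) p Fact.out hrp)
        (coprime_of_prime p Fact.out hsp) hηl ht hl
      obtain ⟨π, hπ⟩ := exists_sp_pad (F := F) hηln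
      exact h ⟨π g, by rw [orderOf_injective π hπ, hg]⟩
  · rintro ⟨h1, h2⟩ ⟨x, hx⟩
    exact no_element_pair p hr2 hs2 hrp hsp hrs hηk hηl hle h1 h2 x hx

theorem psp_char (p : ℕ) [Fact p.Prime] [CharP F p] (hn : 1 ≤ n) {r η : ℕ} [Fact r.Prime] (hr2 : r ≠ 2)
    (hrp : r ≠ p) (hη : IsEta (orderOf ((Fintype.card F : ℕ) : ZMod r)) η) :
    r * p ∉ Set.range (orderOf : Cfsg.PSp n F → ℕ) ↔ n - 1 < η := by
  have hN : Odd (r * p) ∨ p = 2 := by
    rcases (Fact.out : p.Prime).eq_two_or_odd' with h | h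
    · exact Or.inr h
    · exact Or.inl (((Fact.out : r.Prime).odd_of_ne_two hr2).mul h)
  rw [range_iff hn p hN]
  constructor
  · intro h
    by_contra hle
    exact h (exists_product (a := η) (b := 1) (by omega) ((Nat.coprime_primes Fact.out Fact.out).2 hrp)
      (exists_orderOf_eta (coprime_of_prime p Fact.out hrp) hη) (exists_order_p p le_rfl))
  · rintro h ⟨x, hx⟩
    exact no_element_char p hr2 hrp hη (by omega) x hx

/-- A prime dividing the order of PSp has eta at most n. -/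
theorem eta_le_of_dvd (p : ℕ) [Fact p.Prime] [CharP F p] {r η : ℕ} [Fact r.Prime] (hr2 : r ≠ 2) (hrp : r ≠ p)
    (hη : IsEta (orderOf ((Fintype.card F : ℕ) : ZMod r)) η) (h : r ∣ Nat.card (Cfsg.PSp n F)) : η ≤ n := by
  obtain ⟨x, hx⟩ := exists_prime_orderOf_dvd_card' r
    (h.trans (Subgroup.card_quotient_dvd_card (Subgroup.center (Matrix.symplecticGroup (Fin n) F))) :
      r ∣ Nat.card (Matrix.symplecticGroup (Fin n) F))
  haveI : NeZero r := ⟨(Fact.out : r.Prime).ne_zero⟩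
  obtain ⟨c, hc, hcr, hc1⟩ := exists_root_pow_ne p hx ((Nat.coprime_primes Fact.out Fact.out).2 hrp) (s := 1)
    (fun h => (Fact.out : r.Prime).one_lt.ne' (Nat.dvd_one.1 h))
  rw [pow_one] at hc1
  have hqr := coprime_of_prime (F := F) p (Fact.out : r.Prime) hrp
  obtain ⟨S, hS, -, hScard⟩ := exists_conjugates hc (orderOf_eq_prime hcr hc1) hqr
  have := prime_bound hr2 hqr hη
  have := Finset.card_le_card hS
  have := card_rootSet'_le x
  omega

end Cfsg.Agent.SpPrimeGraph
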